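import Groth.Agent.EtTrace.H1Point

/-! `H¹` of torsion-free constant sheaves at a point -/

set_option autoImplicit false
universe u

open CategoryTheory CategoryTheory.Limits AlgebraicGeometry Opposite CategoryTheory.Abelian

namespace Groth.Agent.EtTrace

open Groth.Agent.EtFound Groth.Agent.EtLC12

set_option backward.isDefEq.respectTransparency false
set_option backward.isDefEq.respectTransparency.types false
set_option linter.style.haveILetI false

/-- global sections of a constant sheaf on a one-point scheme are constants -/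
theorem toSheafify_top_surjective (Z : Scheme.{u}) [Subsingleton Z] [Nonempty Z] (A : AddCommGrpCat.{u + 1}) :
    Function.Surjective ((toSheafify Z.smallEtaleTopology ((Functor.const Z.Etaleᵒᵖ).obj A)).app
      (op (EtCoh.top Z))) := by
  intro s
  let η := toSheafify Z.smallEtaleTopology ((Functor.const Z.Etaleᵒᵖ).obj A)
  obtain ⟨V, g, v, ⟨m, hm⟩, -⟩ := (mem_topology_iff _).1
    (Presheaf.imageSieve_mem Z.smallEtaleTopology η (U := op (EtCoh.top Z)) s) (Classical.arbitrary Z)
  refine ⟨m, ?_⟩
  have hR : Sieve.generate (Presieve.singleton g) ∈ Z.smallEtaleTopology (EtCoh.top Z) :=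
    (mem_topology_iff _).2 fun x => ⟨V, g, v, ⟨V, 𝟙 V, g, ⟨⟩, Category.id_comp g⟩,
      @Subsingleton.elim Z ‹_› _ _⟩
  refine Sheaf.isSeparated ((presheafToSheaf Z.smallEtaleTopology AddCommGrpCat.{u + 1}).obj
    ((Functor.const Z.Etaleᵒᵖ).obj A)) (EtCoh.top Z) _ hR _ _ ?_
  rintro Y _ ⟨W, k, _, ⟨⟩, rfl⟩
  have hn : (sheafify Z.smallEtaleTopology ((Functor.const Z.Etaleᵒᵖ).obj A)).map g.op (η.app (op (EtCoh.top Z)) m) =
      (sheafify Z.smallEtaleTopology ((Functor.const Z.Etaleᵒᵖ).obj A)).map g.op s :=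
    (NatTrans.naturality_apply η g.op m).symm.trans hm
  rw [op_comp, Functor.map_comp, ConcreteCategory.comp_apply, ConcreteCategory.comp_apply]
  exact congrArg _ hn

theorem gsec_map_surjective (Z : Scheme.{u}) [Subsingleton Z] [Nonempty Z] {A B : AddCommGrpCat.{u + 1}}
    (g : A ⟶ B) (hg : Function.Surjective g) :
    Function.Surjective ((EtCore.gsec Z).map ((constantSheaf Z.smallEtaleTopology AddCommGrpCat.{u + 1}).map g)) := by
  intro s
  obtain ⟨b, rfl⟩ := toSheafify_top_surjective Z B s
  obtain ⟨a, rfl⟩ := hg b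
  exact ⟨(toSheafify Z.smallEtaleTopology ((Functor.const Z.Etaleᵒᵖ).obj A)).app (op (EtCoh.top Z)) a,
    (ConcreteCategory.congr_hom (congrArg (fun t => t.app (op (EtCoh.top Z)))
      (toSheafify_naturality Z.smallEtaleTopology ((Functor.const Z.Etaleᵒᵖ).map g))) a).symm⟩

/-- `H¹` with torsion-free constant coefficients vanishes at a point -/
theorem subsingleton_H1_const_field (K : Type u) [Field K] (M : Type) [AddCommGroup M] [IsAddTorsionFree M] :
    Subsingleton (EtCoh.H (Spec (CommRingCat.of K)) (EtCoh.const (Spec (CommRingCat.of K)) M) 1) := by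
  let Z := Spec (CommRingCat.of K)
  let C := constantSheaf Z.smallEtaleTopology AddCommGrpCat.{u + 1}
  haveI : PreservesFiniteLimits C := by
    show PreservesFiniteLimits (Functor.const _ ⋙ presheafToSheaf _ _)
    infer_instance
  haveI : PreservesFiniteColimits C := by
    haveI : PreservesColimitsOfSize.{0, 0} C := (EtCore.constAdj Z).leftAdjoint_preservesColimits
    exact PreservesColimitsOfSize.preservesFiniteColimits _
  haveI : C.Additive := Functor.additive_of_preserves_binary_products C
  refine subsingleton_of_forall_eq 0 fun x => ?_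
  obtain ⟨N, hN, hNx⟩ := exists_nsmul_H_field (EtCoh.const Z M) le_rfl x
  let A : AddCommGrpCat.{u + 1} := AddCommGrpCat.of (ULift.{u + 1} M)
  let f : A ⟶ A := N • 𝟙 A
  let S₀ := ShortComplex.mk f (cokernel.π f) (cokernel.condition f)
  have hfa : ∀ a : A, f a = N • a := fun a => by simp [f]
  have hS₀ : S₀.ShortExact :=
    { exact := ShortComplex.exact_of_g_is_cokernel _ (cokernelIsCokernel _)
      mono_f := (AddCommGrpCat.mono_iff_injective _).2 fun a b h => ULift.ext _ _
        (nsmul_right_injective hN.ne' (congrArg ULift.down ((hfa a).symm.trans (h.trans (hfa b))))) }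
  have hS : (S₀.map C).ShortExact := hS₀.map_of_exact C
  have hx : x.comp (Ext.mk₀ (S₀.map C).f) (add_zero 1) = 0 := by
    have e : (S₀.map C).f = N • 𝟙 (C.obj A) := by
      show C.map (N • 𝟙 A) = _
      rw [Functor.map_nsmul, CategoryTheory.Functor.map_id]
    rw [e]
    exact (nsmul_eq_comp x N).symm.trans hNx
  obtain ⟨z, rfl⟩ := Ext.covariant_sequence_exact₁ _ hS x hx (rfl : 0 + 1 = 1)
  obtain ⟨φ, rfl⟩ := (Ext.mk₀_bijective _ _).2 z
  obtain ⟨a, ha⟩ := gsec_map_surjective Z (cokernel.π f)
    ((AddCommGrpCat.epi_iff_surjective _).1 inferInstance) (constVal φ)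
  have hφ : ofVal a ≫ (S₀.map C).g = φ := (constVal_bijective _).1 (by
    rw [constVal_comp, constVal_ofVal]; exact ha)
  rw [← hφ]
  refine Eq.trans ?_ (comp_g_extClass hS (Ext.mk₀ (ofVal a)))
  rw [Ext.mk₀_comp_mk₀]

end Groth.Agent.EtTrace
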