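import Groth.Agent.EtTrace.CohDim
import Groth.Agent.S0108
import Groth.Prelude.Def_Dix

/-! Kummer sequence consequences -/

set_option autoImplicit false
universe u

open CategoryTheory CategoryTheory.Limits AlgebraicGeometry Opposite CategoryTheory.Abelian

namespace Groth.Agent.EtTrace

set_option backward.isDefEq.respectTransparency false
set_option backward.isDefEq.respectTransparency.types false

theorem isUnit_of_invertibleOn {X : Scheme.{u}} {n : ℕ} (h : Dix.InvertibleOn X n) : IsUnit (n : Γ(X, ⊤)) := by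
  have hb : X.basicOpen (n : Γ(X, ⊤)) = ⊤ := top_le_iff.1 fun x _ => by
    refine (Scheme.evaluation_ne_zero_iff_mem_basicOpen X (U := ⊤) x (TopologicalSpace.Opens.mem_top x) _).1 ?_
    rw [map_natCast]
    exact h x
  exact (RingedSpace.isUnit_of_isUnit_germ _ _ _ fun x hx => by
    have : x ∈ X.basicOpen (n : Γ(X, ⊤)) := hb.symm ▸ trivial
    exact (X.mem_basicOpen_top _ x).1 this)

/-- the `n`-torsion of `H(X, G_m)` comes from `μ_n` -/
theorem range_mu {X : Scheme.{u}} {n : ℕ} [Epi (EtCoh.powMap X n)] (i : ℕ) (ξ : EtCoh.H X (EtCoh.Gm X) i) :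
    (∃ z : EtCoh.H X (EtCoh.mu X n) i, z.comp (Ext.mk₀ (EtCoh.muι X n)) (add_zero i) = ξ) ↔ n • ξ = 0 := by
  let S := ShortComplex.mk (EtCoh.muι X n) (EtCoh.powMap X n) (kernel.condition _)
  have hS : S.ShortExact :=
    { exact := ShortComplex.exact_of_f_is_kernel _ (kernelIsKernel _)
      mono_f := inferInstanceAs (Mono (kernel.ι _))
      epi_g := ‹_› }
  have key : ∀ y : EtCoh.H X (EtCoh.Gm X) i, n • y = y.comp (Ext.mk₀ S.g) (add_zero i) := fun y =>
    nsmul_eq_comp y n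
  refine ⟨?_, fun h => Ext.covariant_sequence_exact₂ _ hS ξ ((key ξ).symm.trans h)⟩
  rintro ⟨z, rfl⟩
  rw [key, Ext.comp_assoc_of_third_deg_zero, Ext.mk₀_comp_mk₀]
  show z.comp (Ext.mk₀ (kernel.ι _ ≫ _)) (add_zero i) = 0
  rw [kernel.condition, Ext.mk₀_zero, Ext.comp_zero]

variable {X : Scheme.{u}}

theorem isPrimaryTorsion_of_nsmul_id {G : EtCoh.Ab X} {p m : ℕ} (h : p ^ m • 𝟙 G = 0) :
    Dix.IsPrimaryTorsion p G := by
  intro U s x
  refine ⟨U, 𝟙 U, ⟨x, rfl⟩, m, ?_⟩
  have h1 := Groth.Agent.EtFound.nsmul_hom_app (𝟙 G) (p ^ m) U s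
  rw [h] at h1
  rw [op_id, CategoryTheory.Functor.map_id]
  exact h1.symm

/-- primary vanishing one degree higher -/
theorem eq_zero_of_cohDimLEAt {p n : ℕ} (hcd : Dix.CohDimLEAt X p n) (F : EtCoh.Ab X) {q : ℕ} (hq : n + 1 < q)
    (x : EtCoh.H X F q) {m : ℕ} (hx : p ^ m • x = 0) : x = 0 := by
  obtain ⟨q', rfl⟩ : ∃ q', q = q' + 1 := ⟨q - 1, by omega⟩
  let f : F ⟶ F := p ^ m • 𝟙 F
  let g : F ⟶ Abelian.image f := Abelian.factorThruImage f
  let ι : Abelian.image f ⟶ F := Abelian.image.ι f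
  have hfac : g ≫ ι = f := Abelian.image.fac f
  let S₁ := ShortComplex.mk (kernel.ι g) g (kernel.condition g)
  have hS₁ : S₁.ShortExact := { exact := ShortComplex.exact_of_f_is_kernel _ (kernelIsKernel g) }
  let S₂ := ShortComplex.mk ι (cokernel.π ι) (cokernel.condition ι)
  have hS₂ : S₂.ShortExact := { exact := ShortComplex.exact_of_g_is_cokernel _ (cokernelIsCokernel ι) }
  haveI : Subsingleton (EtCoh.H X (kernel g) (q' + 1)) := hcd _ (isPrimaryTorsion_of_nsmul_id (m := m) (by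
    rw [← cancel_mono (kernel.ι g), zero_comp, Preadditive.nsmul_comp, Category.id_comp,
      ← Category.comp_id (kernel.ι g), ← Preadditive.comp_nsmul]
    show kernel.ι g ≫ f = 0
    exact (congrArg (kernel.ι g ≫ ·) hfac.symm).trans (by rw [kernel.condition_assoc, zero_comp]))) _ (by omega)
  haveI : Subsingleton (EtCoh.H X (cokernel ι) q') := hcd _ (isPrimaryTorsion_of_nsmul_id (m := m) (by
    rw [← cancel_epi (cokernel.π ι), comp_zero, Preadditive.comp_nsmul, Category.comp_id,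
      ← Category.id_comp (cokernel.π ι), ← Preadditive.nsmul_comp]
    show f ≫ cokernel.π ι = 0
    exact (congrArg (· ≫ cokernel.π ι) hfac.symm).trans (by rw [Category.assoc, cokernel.condition, comp_zero]))) _ (by omega)
  have h1 : (x.comp (Ext.mk₀ g) (add_zero _)).comp (Ext.mk₀ ι) (add_zero _) = 0 := by
    rw [Ext.comp_assoc_of_third_deg_zero, Ext.mk₀_comp_mk₀, hfac, ← nsmul_eq_comp, hx]
  obtain ⟨z, hz⟩ := Ext.covariant_sequence_exact₁ _ hS₂ _ h1 rfl
  rw [show z = 0 from Subsingleton.elim (α := EtCoh.H X (cokernel ι) q') _ _, Ext.zero_comp] at hz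
  obtain ⟨w, rfl⟩ := Ext.covariant_sequence_exact₂ _ hS₁ x hz.symm
  rw [show w = 0 from Subsingleton.elim (α := EtCoh.H X (kernel g) (q' + 1)) _ _, Ext.zero_comp]

/-- on Gm with the prime invertible no loss of a degree -/
theorem eq_zero_Gm {p n : ℕ} (hcd : Dix.CohDimLEAt X p n) (hinv : Dix.InvertibleOn X p) {q : ℕ} (hq : n < q)
    (x : EtCoh.H X (EtCoh.Gm X) q) {m : ℕ} (hx : p ^ m • x = 0) : x = 0 := by
  haveI : Epi (EtCoh.powMap X (p ^ m)) := S0108.result X _ (by
    rw [Nat.cast_pow]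
    exact (isUnit_of_invertibleOn hinv).pow m)
  obtain ⟨z, rfl⟩ := (range_mu q x).2 hx
  haveI : Subsingleton (EtCoh.H X (EtCoh.mu X (p ^ m)) q) := hcd _ (isPrimaryTorsion_of_nsmul_id (m := m) (by
    show p ^ m • 𝟙 (kernel (EtCoh.powMap X (p ^ m))) = 0
    rw [← cancel_mono (kernel.ι (EtCoh.powMap X (p ^ m))), zero_comp, Preadditive.nsmul_comp, Category.id_comp,
      ← Category.comp_id (kernel.ι (EtCoh.powMap X (p ^ m))), ← Preadditive.comp_nsmul]
    exact kernel.condition _)) q hq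
  rw [show z = 0 from Subsingleton.elim (α := EtCoh.H X (EtCoh.mu X (p ^ m)) q) _ _, Ext.zero_comp]

end Groth.Agent.EtTrace
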