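import Groth.Agent.EtTrace.Coh
import Mathlib.Algebra.Homology.DerivedCategory.Ext.ExactSequences

/-! cohomological dimension of fields: formal consequences of the trace -/

set_option autoImplicit false
universe u

open CategoryTheory CategoryTheory.Limits AlgebraicGeometry Opposite CategoryTheory.Abelian

namespace Groth.Agent.EtTrace

open Groth.Agent.EtFound

set_option backward.isDefEq.respectTransparency false
set_option backward.isDefEq.respectTransparency.types false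

variable {X : Scheme.{u}}

theorem isTorsion_of_nsmul_id {G : EtCoh.Ab X} {n : ℕ} (hn : 0 < n) (h : n • 𝟙 G = 0) : EtCoh.IsTorsion G := by
  intro U s x
  refine ⟨U, 𝟙 U, ⟨x, rfl⟩, isOfFinAddOrder_iff_nsmul_eq_zero.2 ⟨n, hn, ?_⟩⟩
  have h1 := nsmul_hom_app (𝟙 G) n U s
  rw [h] at h1
  rw [op_id, CategoryTheory.Functor.map_id]
  exact h1.symm

theorem nsmul_comp_mk₀ {A B C : EtCoh.Ab X} {q : ℕ} (y : Ext.{u + 1} A B q) (g : B ⟶ C) (n : ℕ) :
    (n • y).comp (Ext.mk₀ g) (add_zero q) = n • y.comp (Ext.mk₀ g) (add_zero q) := by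
  induction n with
  | zero => rw [zero_nsmul, zero_nsmul, Ext.zero_comp]
  | succ n ih => rw [succ_nsmul, succ_nsmul, Ext.add_comp, ih]

theorem nsmul_eq_comp {A B : EtCoh.Ab X} {q : ℕ} (y : Ext.{u + 1} A B q) (n : ℕ) :
    n • y = y.comp (Ext.mk₀ (n • 𝟙 B)) (add_zero q) := by
  rw [comp_mk₀_nsmul, Ext.comp_mk₀_id]

variable [CompactSpace X] [QuasiSeparatedSpace X]

/-- classes of torsion sheaves come from sheaves of bounded exponent -/
theorem exists_bounded {F : EtCoh.Ab X} (hF : EtCoh.IsTorsion F) (q : ℕ) (x : EtCoh.H X F q) :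
    ∃ (G : EtCoh.Ab X) (n : ℕ) (f : G ⟶ F) (y : EtCoh.H X G q),
      0 < n ∧ n • 𝟙 G = 0 ∧ y.comp (Ext.mk₀ f) (add_zero q) = x := by
  haveI := isIso_aug_top (X := X)
  have hW : IsQcqsObj (EtCoh.top X) :=
    ⟨inferInstanceAs (CompactSpace X), inferInstanceAs (QuasiSeparatedSpace X)⟩
  obtain ⟨hc⟩ := nonempty_isColimit_stageCocone hF
  let e : colimit (stageFunctor F) ≅ F := (colimit.isColimit (stageFunctor F)).coconePointUniqueUpToIso hc
  obtain ⟨j, y, hy⟩ := (comm_free hW q (stageFunctor F)).surj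
    (((Ext.mk₀ (aug (EtCoh.top X))).comp x (zero_add q)).comp (Ext.mk₀ e.inv) (add_zero q))
  obtain ⟨n, hn, hDn⟩ := exists_nsmul_stage j
  refine ⟨(stageFunctor F).obj j, n, colimit.ι (stageFunctor F) j ≫ e.hom,
    (Ext.mk₀ (inv (aug (EtCoh.top X)))).comp y (zero_add q), hn, hDn, ?_⟩
  rw [← Ext.mk₀_comp_mk₀, ← Ext.comp_assoc_of_third_deg_zero, Ext.comp_assoc_of_third_deg_zero _ y, hy]
  simp only [Ext.comp_assoc_of_third_deg_zero, Ext.mk₀_comp_mk₀, Iso.inv_hom_id, Ext.comp_mk₀_id]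
  rw [Ext.mk₀_comp_mk₀_assoc, IsIso.inv_hom_id, Ext.mk₀_id_comp]

omit [CompactSpace X] [QuasiSeparatedSpace X] in
/-- primary vanishing one degree higher for arbitrary sheaves -/
theorem eq_zero_of_pow_smul_eq_zero {p n : ℕ} (hp : 0 < p)
    (hcd : ∀ G : EtCoh.Ab X, EtCoh.IsTorsion G → ∀ q : ℕ, n < q →
      ∀ x : EtCoh.H X G q, (∃ m : ℕ, p ^ m • x = 0) → x = 0)
    (F : EtCoh.Ab X) {q : ℕ} (hq : n + 1 < q) (x : EtCoh.H X F q) {m : ℕ} (hx : p ^ m • x = 0) : x = 0 := by
  obtain ⟨q', rfl⟩ : ∃ q', q = q' + 1 := ⟨q - 1, by omega⟩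
  have hN : 0 < p ^ m := Nat.pow_pos hp
  let f : F ⟶ F := p ^ m • 𝟙 F
  let g : F ⟶ Abelian.image f := Abelian.factorThruImage f
  let ι : Abelian.image f ⟶ F := Abelian.image.ι f
  have hfac : g ≫ ι = f := Abelian.image.fac f
  let S₁ := ShortComplex.mk (kernel.ι g) g (kernel.condition g)
  have hS₁ : S₁.ShortExact := { exact := ShortComplex.exact_of_f_is_kernel _ (kernelIsKernel g) }
  let S₂ := ShortComplex.mk ι (cokernel.π ι) (cokernel.condition ι)
  have hS₂ : S₂.ShortExact := { exact := ShortComplex.exact_of_g_is_cokernel _ (cokernelIsCokernel ι) }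
  have hK : EtCoh.IsTorsion (kernel g) := isTorsion_of_nsmul_id hN (by
    rw [← cancel_mono (kernel.ι g), zero_comp, Preadditive.nsmul_comp, Category.id_comp,
      ← Category.comp_id (kernel.ι g), ← Preadditive.comp_nsmul]
    show kernel.ι g ≫ f = 0
    exact (congrArg (kernel.ι g ≫ ·) hfac.symm).trans (by rw [kernel.condition_assoc, zero_comp]))
  have hC : EtCoh.IsTorsion (cokernel ι) := isTorsion_of_nsmul_id hN (by
    rw [← cancel_epi (cokernel.π ι), comp_zero, Preadditive.comp_nsmul, Category.comp_id,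
      ← Category.id_comp (cokernel.π ι), ← Preadditive.nsmul_comp]
    show f ≫ cokernel.π ι = 0
    exact (congrArg (· ≫ cokernel.π ι) hfac.symm).trans (by rw [Category.assoc, cokernel.condition, comp_zero]))
  have hCkill : ∀ z : EtCoh.H X (cokernel ι) q', z = 0 := fun z => hcd _ hC q' (by omega) z ⟨m, by
    rw [nsmul_eq_comp]
    rw [show p ^ m • 𝟙 (cokernel ι) = 0 by
      rw [← cancel_epi (cokernel.π ι), comp_zero, Preadditive.comp_nsmul, Category.comp_id,
        ← Category.id_comp (cokernel.π ι), ← Preadditive.nsmul_comp]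
      show f ≫ cokernel.π ι = 0
      exact (congrArg (· ≫ cokernel.π ι) hfac.symm).trans (by rw [Category.assoc, cokernel.condition, comp_zero]), Ext.mk₀_zero, Ext.comp_zero]⟩
  have h1 : (x.comp (Ext.mk₀ g) (add_zero _)).comp (Ext.mk₀ ι) (add_zero _) = 0 := by
    rw [Ext.comp_assoc_of_third_deg_zero, Ext.mk₀_comp_mk₀, hfac, ← nsmul_eq_comp, hx]
  obtain ⟨z, hz⟩ := Ext.covariant_sequence_exact₁ _ hS₂ _ h1 rfl
  rw [hCkill z, Ext.zero_comp] at hz
  obtain ⟨w, rfl⟩ := Ext.covariant_sequence_exact₂ _ hS₁ x hz.symm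
  rw [hcd _ hK (q' + 1) (by omega) w ⟨m, by
    rw [nsmul_eq_comp, show p ^ m • 𝟙 (kernel g) = 0 by
      rw [← cancel_mono (kernel.ι g), zero_comp, Preadditive.nsmul_comp, Category.id_comp,
        ← Category.comp_id (kernel.ι g), ← Preadditive.comp_nsmul]
      show kernel.ι g ≫ f = 0
      exact (congrArg (kernel.ι g ≫ ·) hfac.symm).trans (by rw [kernel.condition_assoc, zero_comp]), Ext.mk₀_zero, Ext.comp_zero]⟩, Ext.zero_comp]

end Groth.Agent.EtTrace
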