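import Groth.Agent.EtTrace.CohDim
import Groth.Agent.EtFound.CoprodSections
import Groth.Agent.EtFound.PullStalk
import Groth.Agent.EtFound.PushExact

/-! torsion of higher cohomology over fields and of direct images from them -/

set_option autoImplicit false
universe u

open CategoryTheory CategoryTheory.Limits AlgebraicGeometry Opposite CategoryTheory.Abelian

namespace Groth.Agent.EtTrace

open Groth.Agent.EtFound Groth.Agent.EtLC12

set_option backward.isDefEq.respectTransparency false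
set_option backward.isDefEq.respectTransparency.types false
set_option linter.style.haveILetI false

section Decompose

variable {X : Scheme.{u}}

theorem eq_zero_of_pieces {W : X.Etale} {ι : Type} [Fintype ι] (B : ι → X.Etale) (i : ∀ j, B j ⟶ W)
    [∀ j, Mono (i j)] (hcov : ∀ x : W.left, ∃ (j : ι) (z : (B j).left), (i j).left.base z = x)
    (hdisj : ∀ j l, j ≠ l → ∀ a b, (i j).left.base a ≠ (i l).left.base b)
    {F : EtCoh.Ab X} {n : ℕ} (x : Ext.{u + 1} (freeOn W) F n)
    (hx : ∀ j, (Ext.mk₀ (freeMap (i j))).comp x (zero_add n) = 0) : x = 0 := by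
  classical
  have hp : ∀ j, ∃ p : freeOn W ⟶ freeOn (B j), ∀ l, (freeOn (B j)).obj.map (i l).op (freeVal p) =
      if h : l = j then (freeOn (B j)).obj.map (eqToHom (by rw [h]) : B l ⟶ B j).op (freeVal (𝟙 (freeOn (B j)))) else 0 := by
    intro j
    obtain ⟨s, hs⟩ := (bijective_sections_of_disjoint (freeOn (B j)) B i hcov hdisj).2
      (fun l => if h : l = j then (freeOn (B j)).obj.map (eqToHom (by rw [h]) : B l ⟶ B j).op (freeVal (𝟙 (freeOn (B j)))) else 0)
    obtain ⟨p, hp⟩ := exists_free_hom s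
    exact ⟨p, fun l => by rw [hp]; exact congrFun hs l⟩
  choose p hp using hp
  have hsum : ∑ j, p j ≫ freeMap (i j) = 𝟙 (freeOn W) := by
    refine free_ext ((bijective_sections_of_disjoint (freeOn W) B i hcov hdisj).1 (funext fun l => ?_))
    show (freeOn W).obj.map (i l).op (freeVal (∑ j, p j ≫ freeMap (i j))) = _
    have hv : freeVal (∑ j, p j ≫ freeMap (i j)) = ∑ j, freeVal (p j ≫ freeMap (i j)) := by
      let e : (freeOn W ⟶ freeOn W) →+ (freeOn W).obj.obj (op W) :=
        AddMonoidHom.mk' freeVal fun _ _ => rfl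
      exact map_sum e _ _
    rw [hv, map_sum, Finset.sum_eq_single l]
    · rw [freeVal_comp]
      refine (ConcreteCategory.congr_hom ((freeMap (i l)).hom.naturality (i l).op) (freeVal (p l))).symm.trans ?_
      refine (congrArg ((freeMap (i l)).hom.app (op (B l))) ((hp l l).trans (dif_pos rfl))).trans ?_
      rw [eqToHom_refl, op_id, CategoryTheory.Functor.map_id]
      exact (freeVal_comp _ _).symm.trans ((congrArg freeVal (Category.id_comp _)).trans (freeVal_freeMap _))
    · intro j _ hj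
      rw [freeVal_comp]
      refine (ConcreteCategory.congr_hom ((freeMap (i j)).hom.naturality (i l).op) (freeVal (p j))).symm.trans ?_
      refine (congrArg ((freeMap (i j)).hom.app (op (B l))) ((hp j l).trans (dif_neg (Ne.symm hj)))).trans ?_
      exact map_zero _
    · simp
  rw [← Ext.mk₀_id_comp x, ← hsum, Ext.mk₀_sum, Ext.sum_comp]
  refine Finset.sum_eq_zero fun j _ => ?_
  rw [← Ext.mk₀_comp_mk₀_assoc, hx, Ext.comp_zero]

end Decompose

section Field

variable {K : Type u} [Field K]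

local notation "S" => Spec (CommRingCat.of K)

theorem discrete_left (W : (S).Etale) : DiscreteTopology W.left := by
  haveI : AlgebraicGeometry.Etale W.hom := W.prop
  refine discreteTopology_iff_isOpen_singleton.2 fun w => ?_
  obtain ⟨O, hO, hwO, -⟩ := exists_isAffineOpen_mem_and_subset (U := (⊤ : W.left.Opens)) (x := w) trivial
  let φ : CommRingCat.of K ⟶ Γ(W.left, O) := Spec.preimage (hO.fromSpec ≫ W.hom)
  letI : Algebra K Γ(W.left, O) := φ.hom.toAlgebra
  have hφ : Spec.map (CommRingCat.ofHom (algebraMap K Γ(W.left, O))) = hO.fromSpec ≫ W.hom := Spec.map_preimage _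
  haveI : Algebra.Etale K Γ(W.left, O) := RingHom.etale_algebraMap.1
    ((HasRingHomProperty.Spec_iff (P := @AlgebraicGeometry.Etale)).1 (hφ ▸ inferInstance))
  haveI : Module.Finite K Γ(W.left, O) := Algebra.FormallyUnramified.finite_of_free K _
  haveI : IsArtinianRing Γ(W.left, O) := IsArtinianRing.of_finite K _
  have hw : hO.fromSpec (hO.primeIdealOf ⟨w, hwO⟩) = w := hO.fromSpec_primeIdealOf ⟨w, hwO⟩
  have h := hO.fromSpec.isOpenEmbedding.isOpenMap {hO.primeIdealOf ⟨w, hwO⟩} (isOpen_discrete (α := PrimeSpectrum Γ(W.left, O)) _)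
  rwa [Set.image_singleton, hw] at h

/-- every point of an étale scheme over a field is an open spectrum of a finite separable extension -/
theorem exists_open_point (W : (S).Etale) (w : W.left) :
    ∃ (L : Type u) (_ : Field L) (_ : Algebra K L) (_ : FiniteDimensional K L) (_ : Algebra.IsSeparable K L)
      (i : obj K L ⟶ W), IsOpenImmersion i.left ∧ ∀ z, i.left.base z = w := by
  haveI : AlgebraicGeometry.Etale W.hom := W.prop
  haveI := discrete_left W
  obtain ⟨O, hO, hwO, hOw⟩ := exists_isAffineOpen_mem_and_subset (U := (⟨{w}, isOpen_discrete _⟩ : W.left.Opens))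
    (x := w) rfl
  let φ : CommRingCat.of K ⟶ Γ(W.left, O) := Spec.preimage (hO.fromSpec ≫ W.hom)
  letI : Algebra K Γ(W.left, O) := φ.hom.toAlgebra
  have hφ : Spec.map (CommRingCat.ofHom (algebraMap K Γ(W.left, O))) = hO.fromSpec ≫ W.hom := Spec.map_preimage _
  haveI : Algebra.Etale K Γ(W.left, O) := RingHom.etale_algebraMap.1
    ((HasRingHomProperty.Spec_iff (P := @AlgebraicGeometry.Etale)).1 (hφ ▸ inferInstance))
  haveI : Module.Finite K Γ(W.left, O) := Algebra.FormallyUnramified.finite_of_free K _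
  haveI : _root_.IsReduced Γ(W.left, O) := Algebra.FormallyUnramified.isReduced_of_field K _
  let p := (hO.primeIdealOf ⟨w, hwO⟩).asIdeal
  haveI : IsArtinianRing Γ(W.left, O) := IsArtinianRing.of_finite K _
  haveI : p.IsMaximal := IsArtinianRing.isMaximal_of_isPrime p
  letI : Field (Γ(W.left, O) ⧸ p) := Ideal.Quotient.field p
  haveI : Algebra.FormallyUnramified K (Γ(W.left, O) ⧸ p) :=
    Algebra.FormallyUnramified.of_surjective (IsScalarTower.toAlgHom K Γ(W.left, O) (Γ(W.left, O) ⧸ p))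
      Ideal.Quotient.mk_surjective
  haveI : Algebra.IsSeparable K (Γ(W.left, O) ⧸ p) := Algebra.FormallyUnramified.isSeparable K _
  have hp : p = ⊥ := by
    refine le_bot_iff.1 fun a ha => (show IsNilpotent a from ?_).eq_zero
    refine mem_nilradical.1 ?_
    rw [nilradical_eq_sInf]
    refine Ideal.mem_sInf.2 fun {q} hq => ?_
    have h : (⟨q, hq⟩ : PrimeSpectrum Γ(W.left, O)) = hO.primeIdealOf ⟨w, hwO⟩ := by
      refine hO.fromSpec.isOpenEmbedding.injective ?_
      have h1 : ∀ z, hO.fromSpec z = w := fun z => hOw (hO.range_fromSpec.le ⟨z, rfl⟩)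
      exact (h1 _).trans (h1 _).symm
    rw [show q = p from congrArg PrimeSpectrum.asIdeal h]
    exact ha
  have hbij : Function.Bijective (Ideal.Quotient.mk p) :=
    ⟨(injective_iff_map_eq_zero _).2 fun a ha => by
      rw [Ideal.Quotient.eq_zero_iff_mem, hp] at ha
      exact ha, Ideal.Quotient.mk_surjective⟩
  haveI : IsIso (CommRingCat.ofHom (Ideal.Quotient.mk p)) := (ConcreteCategory.isIso_iff_bijective _).2 hbij
  refine ⟨Γ(W.left, O) ⧸ p, inferInstance, inferInstance, inferInstance, inferInstance,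
    MorphismProperty.Over.homMk (Spec.map (CommRingCat.ofHom (Ideal.Quotient.mk p)) ≫ hO.fromSpec) (by
      rw [Category.assoc, ← hφ, ← Spec.map_comp, ← CommRingCat.ofHom_comp]
      rfl), (inferInstance : IsOpenImmersion (Spec.map (CommRingCat.ofHom (Ideal.Quotient.mk p)) ≫ hO.fromSpec)),
    fun z => ?_⟩
  exact hOw (hO.range_fromSpec.le ⟨_, rfl⟩)

/-- the trace for an arbitrary morphism of spectra of finite separable extensions -/
theorem exists_trace_of_hom {L M : Type u} [Field L] [Field M] [Algebra K L] [Algebra K M] [FiniteDimensional K L]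
    [FiniteDimensional K M] [Algebra.IsSeparable K L] [Algebra.IsSeparable K M] (a : obj K M ⟶ obj K L) :
    ∃ (d : ℕ) (t : freeOn (obj K L) ⟶ freeOn (obj K M)), 0 < d ∧ t ≫ freeMap a = d • 𝟙 _ := by
  let φ : CommRingCat.of L ⟶ CommRingCat.of M := Spec.preimage (a.left : Spec (CommRingCat.of M) ⟶ Spec (CommRingCat.of L))
  letI : Algebra L M := φ.hom.toAlgebra
  haveI : IsScalarTower K L M := by
    have h : Spec.map (CommRingCat.ofHom (algebraMap K L) ≫ φ) = Spec.map (CommRingCat.ofHom (algebraMap K M)) := by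
      rw [Spec.map_comp, Spec.map_preimage]
      exact MorphismProperty.Over.w a
    exact IsScalarTower.of_algebraMap_eq fun x => (RingHom.congr_fun (congrArg CommRingCat.Hom.hom (Spec.map_injective h)) x).symm
  have ha : a = homOf (IsScalarTower.toAlgHom K L M) := by
    apply MorphismProperty.Over.Hom.ext
    exact (Spec.map_preimage (a.left : Spec (CommRingCat.of M) ⟶ Spec (CommRingCat.of L))).symm
  obtain ⟨t, ht⟩ := exists_trace_field (K := K) (L₀ := L) (L := M)
  haveI : FiniteDimensional L M := Module.Finite.of_restrictScalars_finite K L M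
  exact ⟨Module.finrank L M, t, Module.finrank_pos, ha ▸ ht⟩

/-- positive degree classes on quasi-compact étale schemes over a field are torsion -/
theorem exists_nsmul_ext {W : (S).Etale} [CompactSpace W.left] (F : EtCoh.Ab S) (n : ℕ)
    (x : Ext.{u + 1} (freeOn W) F (n + 1)) : ∃ N : ℕ, 0 < N ∧ N • x = 0 := by
  classical
  haveI := discrete_left W
  haveI : Finite W.left := finite_of_compact_of_discrete
  let m := Nat.card W.left
  let e : Fin m ≃ W.left := (Finite.equivFin W.left).symm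
  choose L _ _ _ _ i hi hiw using fun j : Fin m => exists_open_point W (e j)
  have hN : ∀ j, ∃ d : ℕ, 0 < d ∧ d • (Ext.mk₀ (freeMap (i j))).comp x (zero_add (n + 1)) = 0 := by
    intro j
    obtain ⟨V, a, v, -, hV⟩ := exists_killing (obj K (L j)) F n ((Ext.mk₀ (freeMap (i j))).comp x (zero_add (n + 1)))
      (default : Spec (CommRingCat.of (L j)))
    obtain ⟨M, _, _, _, _, b, -, -⟩ := exists_open_point V v
    obtain ⟨d, t, hd, ht⟩ := exists_trace_of_hom (b ≫ a)
    refine ⟨d, hd, nsmul_eq_zero_of_freeMap ⟨t, ht⟩ _ ?_⟩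
    rw [freeMap_comp, ← Ext.mk₀_comp_mk₀_assoc, hV, Ext.comp_zero]
  choose d hd hd0 using hN
  refine ⟨∏ j, d j, Finset.prod_pos fun j _ => hd j, ?_⟩
  haveI : ∀ j, Mono (i j) := fun j => by
    haveI := hi j
    refine ⟨fun f g h => MorphismProperty.Over.Hom.ext ?_⟩
    rw [← cancel_mono (i j).left]
    exact congrArg (fun m => m.left) h
  refine eq_zero_of_pieces (fun j => obj K (L j)) i (fun w => ?_) (fun j l hjl a b hab => hjl ?_) _ fun j => ?_
  · exact ⟨e.symm w, (default : Spec (CommRingCat.of (L (e.symm w)))), (hiw _ _).trans (e.apply_symm_apply w)⟩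
  · exact e.injective ((hiw j a).symm.trans (hab.trans (hiw l b)))
  · obtain ⟨c, hc⟩ : d j ∣ ∏ j, d j := Finset.dvd_prod_of_mem d (Finset.mem_univ j)
    have h := map_nsmul ((Ext.mk₀ (freeMap (i j))).precomp F (zero_add (n + 1))) (∏ j, d j) x
    refine h.trans ?_
    rw [hc, mul_comm, mul_nsmul']
    exact (congrArg (c • ·) (hd0 j)).trans (smul_zero c)

theorem exists_nsmul_H_field (F : EtCoh.Ab S) {q : ℕ} (hq : 1 ≤ q) (x : EtCoh.H S F q) :
    ∃ N : ℕ, 0 < N ∧ N • x = 0 := by
  obtain ⟨j, rfl⟩ : ∃ j, q = j + 1 := ⟨q - 1, by omega⟩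
  obtain ⟨L, _, _, _, _, hL⟩ := exists_killing_field F j x
  exact ⟨Module.finrank K L, Module.finrank_pos, nsmul_eq_zero x hL⟩

end Field

section Push

variable {X Z : Scheme.{u}} (f : Z ⟶ X) [QuasiCompact f] [QuasiSeparated f]

theorem exists_qc_nhd (U : X.Etale) (x : U.left) :
    ∃ (V : X.Etale) (g : V ⟶ U), (∃ v, g.left.base v = x) ∧ CompactSpace V.left ∧ IsQcqsObj ((EtCoh.bc f).obj V) := by
  obtain ⟨V, g, hV, hv⟩ := exists_affine_cover_hom U x
  refine ⟨V, g, hv, inferInstance, ?_⟩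
  let p : ((EtCoh.bc f).obj V).left ⟶ V.left := pullback.fst V.hom f
  haveI : QuasiCompact p := MorphismProperty.pullback_fst _ _ ‹QuasiCompact f›
  haveI : QuasiSeparated p := MorphismProperty.pullback_fst _ _ ‹QuasiSeparated f›
  exact ⟨QuasiCompact.compactSpace_of_compactSpace p, quasiSeparatedSpace_of_quasiSeparated p⟩

variable (hk : ∀ (F : EtCoh.Ab Z) (n : ℕ) (W : Z.Etale), IsQcqsObj W → ∀ x : Ext.{u + 1} (freeOn W) F (n + 1),
  ∃ N : ℕ, 0 < N ∧ N • x = 0)

include hk in
theorem isTorsion_Rpush_of (F : EtCoh.Ab Z) (p : ℕ) : EtCoh.IsTorsion ((EtCoh.Rpush f (p + 1)).obj F) := by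
  let R := injectiveResolution F
  refine isTorsion_of_iso (R.isoRightDerivedObj (EtCoh.push f) (p + 1)).symm ?_
  let C := ((EtCoh.push f).mapHomologicalComplex (ComplexShape.up ℕ)).obj R.cocomplex
  change EtCoh.IsTorsion (C.homology (p + 1))
  intro U s x
  have hloc : Presheaf.IsLocallySurjective X.smallEtaleTopology (C.homologyπ (p + 1)).hom :=
    (Sheaf.isLocallySurjective_iff_epi' AddCommGrpCat.{u + 1} (C.homologyπ (p + 1))).2 inferInstance
  obtain ⟨V₁, g₁, v₁, ⟨c₁, hc₁⟩, hv₁⟩ := (mem_topology_iff _).1 (hloc.imageSieve_mem (U := U) s) x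
  obtain ⟨V, r, ⟨v, hv⟩, -, hW⟩ := exists_qc_nhd f V₁ v₁
  let W := (EtCoh.bc f).obj V
  let c := (C.cycles (p + 1)).obj.map r.op c₁
  let z : (R.cocomplex.X (p + 1)).obj.obj (op W) := (C.iCycles (p + 1)).hom.app (op V) c
  obtain ⟨ψ, hψ⟩ := exists_free_hom z
  have hψd : ψ ≫ R.cocomplex.d (p + 1) (p + 1 + 1) = 0 := free_ext <| by
    refine (congrArg ((R.cocomplex.d (p + 1) (p + 1 + 1)).hom.app (op W)) hψ).trans ?_
    exact ConcreteCategory.congr_hom (congrArg (fun m : C.cycles (p + 1) ⟶ C.X (p + 1 + 1) => m.hom.app (op V))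
      (C.iCycles_d (p + 1) (p + 1 + 1))) c
  haveI hinj : Mono ((C.iCycles (p + 1)).hom.app (op V)) := inferInstance
  obtain ⟨n, hn, hx⟩ := hk F p W hW (R.extMk ψ (p + 2) rfl hψd)
  rw [extMk_nsmul] at hx
  obtain ⟨g, hg⟩ := (R.extMk_eq_zero_iff _ (p + 2) rfl _ p rfl).1 hx
  let w : (C.X p).obj.obj (op V) := (freeVal g : (R.cocomplex.X p).obj.obj (op W))
  have hz : n • c = (C.toCycles p (p + 1)).hom.app (op V) w := (AddCommGrpCat.mono_iff_injective _).1 hinj (by
    rw [map_nsmul]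
    refine Eq.trans ?_ (ConcreteCategory.congr_hom (congrArg (fun m : C.X p ⟶ C.X (p + 1) => m.hom.app (op V))
      (C.toCycles_i p (p + 1))).symm w)
    change n • z = freeVal (g ≫ R.cocomplex.d p (p + 1))
    rw [hg, ← hψ, freeVal_nsmul])
  have hkill : n • (C.homologyπ (p + 1)).hom.app (op V) c = 0 := by
    rw [← map_nsmul, hz]
    exact ConcreteCategory.congr_hom (congrArg (fun m : C.X p ⟶ C.homology (p + 1) => m.hom.app (op V))
      (C.toCycles_comp_homologyπ p (p + 1))) w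
  refine ⟨V, r ≫ g₁, ⟨v, by rw [← hv₁, ← hv]; rfl⟩, isOfFinAddOrder_iff_nsmul_eq_zero.2 ⟨n, hn, ?_⟩⟩
  rw [op_comp, Functor.map_comp, ConcreteCategory.comp_apply, ← hc₁]
  refine Eq.trans ?_ hkill
  exact congrArg (n • ·) (ConcreteCategory.congr_hom ((C.homologyπ (p + 1)).hom.naturality r.op) c₁).symm

variable (hH : ∀ (F : EtCoh.Ab Z) (n : ℕ) (x : EtCoh.H Z F (n + 1)), ∃ N : ℕ, 0 < N ∧ N • x = 0)

include hk hH in
theorem exists_nsmul_H_push [CompactSpace X] [QuasiSeparatedSpace X] (n : ℕ) :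
    ∀ (F : EtCoh.Ab Z) (x : EtCoh.H X ((EtCoh.push f).obj F) (n + 1)), ∃ N : ℕ, 0 < N ∧ N • x = 0 := by
  induction n using Nat.strong_induction_on with
  | _ n ih =>
  intro F x
  let P := EtCoh.push f
  haveI : PreservesFiniteLimits P := push_preservesFiniteLimits f
  haveI : PreservesFiniteLimits (EtCoh.pull f) := pull_preservesFiniteLimits f
  let S₀ := ShortComplex.mk (Injective.ι F) (cokernel.π _) (cokernel.condition (Injective.ι F))
  have hS₀ : S₀.ShortExact := { exact := ShortComplex.exact_of_g_is_cokernel _ (cokernelIsCokernel _) }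
  haveI : Mono (P.map S₀.f) := inferInstance
  haveI : Injective (P.obj (Injective.under F)) := Injective.injective_of_adjoint (EtCoh.pullPushAdj f) _
  let S₁ := ShortComplex.mk (P.map S₀.f) (cokernel.π _) (cokernel.condition (P.map S₀.f))
  have hS₁ : S₁.ShortExact := { exact := ShortComplex.exact_of_g_is_cokernel _ (cokernelIsCokernel _) }
  have hex : (S₀.map P).Exact := by
    have h := ((Functor.preservesFiniteLimits_tfae P).out 3 0 rfl rfl).1 ‹_›
    exact (h S₀ hS₀).1
  let j : cokernel (P.map S₀.f) ⟶ P.obj S₀.X₃ := cokernel.desc (P.map S₀.f) (P.map S₀.g) (S₀.map P).zero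
  have hj : cokernel.π (P.map S₀.f) ≫ j = P.map S₀.g := cokernel.π_desc _ _ _
  haveI : Mono j := hex.mono_cokernelDesc
  let S₂ := ShortComplex.mk j (cokernel.π j) (cokernel.condition j)
  have hS₂ : S₂.ShortExact := { exact := ShortComplex.exact_of_g_is_cokernel _ (cokernelIsCokernel _) }
  have hT : EtCoh.IsTorsion (cokernel j) := by
    intro U s y
    have hloc : Presheaf.IsLocallySurjective X.smallEtaleTopology (cokernel.π j).hom :=
      (Sheaf.isLocallySurjective_iff_epi' AddCommGrpCat.{u + 1} (cokernel.π j)).2 inferInstance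
    obtain ⟨V₁, g₁, v₁, ⟨c₁, hc₁⟩, hv₁⟩ := (mem_topology_iff _).1 (hloc.imageSieve_mem (U := U) s) y
    obtain ⟨V, r, ⟨v, hv⟩, -, hW⟩ := exists_qc_nhd f V₁ v₁
    let c : (P.obj S₀.X₃).obj.obj (op V) := (P.obj S₀.X₃).obj.map r.op c₁
    let W := (EtCoh.bc f).obj V
    obtain ⟨ψ, hψ⟩ := exists_free_hom (W := W) (G := S₀.X₃) c
    obtain ⟨N, hN, hN0⟩ := hk S₀.X₁ 0 W hW ((Ext.mk₀ ψ).comp hS₀.extClass (zero_add 1))
    have h1 : (Ext.mk₀ (N • ψ)).comp hS₀.extClass (zero_add 1) = 0 := by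
      have e := map_nsmul (hS₀.extClass.postcomp (freeOn W) (zero_add 1)) N (Ext.mk₀ ψ)
      refine Eq.trans ?_ hN0
      refine Eq.trans ?_ e
      congr 1
      exact map_nsmul Ext.addEquiv₀.symm N ψ
    obtain ⟨φ', hφ'⟩ := Ext.covariant_sequence_exact₃ _ hS₀ _ rfl h1
    obtain ⟨φ, rfl⟩ := (Ext.mk₀_bijective _ _).2 φ'
    rw [Ext.mk₀_comp_mk₀] at hφ'
    have hφ : φ ≫ S₀.g = N • ψ := (Ext.mk₀_bijective _ _).1 hφ'
    refine ⟨V, r ≫ g₁, ⟨v, by rw [← hv₁, ← hv]; rfl⟩, isOfFinAddOrder_iff_nsmul_eq_zero.2 ⟨N, hN, ?_⟩⟩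
    rw [op_comp, Functor.map_comp, ConcreteCategory.comp_apply, ← hc₁]
    have hnat : (cokernel j).obj.map r.op ((cokernel.π j).hom.app (op V₁) c₁) = (cokernel.π j).hom.app (op V) c :=
      (ConcreteCategory.congr_hom ((cokernel.π j).hom.naturality r.op) c₁).symm
    refine (congrArg (N • ·) hnat).trans ?_
    rw [← map_nsmul]
    let fv : (P.obj S₀.X₂).obj.obj (op V) := (freeVal (W := W) φ : S₀.X₂.obj.obj (op W))
    have hNc : N • c = (P.map S₀.g).hom.app (op V) fv := by
      have h := congrArg freeVal hφ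
      rw [freeVal_nsmul, freeVal_comp, hψ] at h
      exact h.symm
    rw [hNc, ← hj]
    exact (congrArg (fun m : cokernel (P.map S₀.f) ⟶ cokernel j => m.hom.app (op V)
      ((cokernel.π (P.map S₀.f)).hom.app (op V) fv)) (cokernel.condition j)).trans (by rfl)
  obtain ⟨z, hz⟩ : ∃ z : EtCoh.H X (cokernel (P.map S₀.f)) n, z.comp hS₁.extClass rfl = x := by
    refine Ext.covariant_sequence_exact₁ _ hS₁ x ?_ rfl
    exact Ext.eq_zero_of_injective _
  subst hz
  suffices h : ∃ N : ℕ, 0 < N ∧ ∃ w : EtCoh.H X (P.obj (Injective.under F)) n,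
      w.comp (Ext.mk₀ S₁.g) (add_zero n) = N • z by
    obtain ⟨N, hN, w, hw⟩ := h
    refine ⟨N, hN, ?_⟩
    refine (map_nsmul (hS₁.extClass.postcomp (EtCoh.const X ℤ) rfl) N z).symm.trans ?_
    rw [← hw]
    show (w.comp (Ext.mk₀ S₁.g) (add_zero n)).comp hS₁.extClass rfl = 0
    simp
  cases n with
  | zero =>
    obtain ⟨c, rfl⟩ := (Ext.mk₀_bijective _ _).2 z
    let e := (EtCoh.pullPushAdj f).homEquiv (EtCoh.const X ℤ) S₀.X₃
    let ψ : EtCoh.const Z ℤ ⟶ S₀.X₃ := (EtCore.pullConst f ℤ).inv ≫ e.symm (c ≫ j)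
    obtain ⟨N, hN, hN0⟩ := hH S₀.X₁ 0 ((Ext.mk₀ ψ).comp hS₀.extClass (zero_add 1))
    have h1 : (Ext.mk₀ (N • ψ)).comp hS₀.extClass (zero_add 1) = 0 := by
      have e := map_nsmul (hS₀.extClass.postcomp (EtCoh.const Z ℤ) (zero_add 1)) N (Ext.mk₀ ψ)
      refine Eq.trans ?_ hN0
      refine Eq.trans ?_ e
      congr 1
      exact map_nsmul Ext.addEquiv₀.symm N ψ
    obtain ⟨φ', hφ'⟩ := Ext.covariant_sequence_exact₃ _ hS₀ _ rfl h1
    obtain ⟨φ, rfl⟩ := (Ext.mk₀_bijective _ _).2 φ'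
    rw [Ext.mk₀_comp_mk₀] at hφ'
    have hφ : φ ≫ S₀.g = N • ψ := (Ext.mk₀_bijective _ _).1 hφ'
    refine ⟨N, hN, Ext.mk₀ ((EtCoh.pullPushAdj f).homEquiv _ _ ((EtCore.pullConst f ℤ).hom ≫ φ)), ?_⟩
    rw [Ext.mk₀_comp_mk₀]
    refine (congrArg Ext.mk₀ ?_).trans (map_nsmul Ext.addEquiv₀.symm N c)
    rw [← cancel_mono j, Category.assoc]
    refine (congrArg (_ ≫ ·) hj).trans ?_
    rw [← Adjunction.homEquiv_naturality_right, Category.assoc, hφ, Preadditive.comp_nsmul,
      Preadditive.nsmul_comp]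
    simp only [ψ, Iso.hom_inv_id_assoc]
    refine (map_nsmul ((EtCoh.pullPushAdj f).homAddEquiv (EtCoh.const X ℤ) S₀.X₃) N (e.symm (c ≫ j))).trans ?_
    congr 1
    exact e.apply_symm_apply _
  | succ m =>
    obtain ⟨N, hN, hN0⟩ := ih m (by omega) S₀.X₃ (z.comp (Ext.mk₀ j) (add_zero _))
    have h1 : (N • z).comp (Ext.mk₀ S₂.f) (add_zero (m + 1)) = 0 := (nsmul_comp_mk₀ z j N).trans hN0
    obtain ⟨t, ht⟩ := Ext.covariant_sequence_exact₁ _ hS₂ _ h1 rfl
    obtain ⟨M, hM, hM0⟩ := exists_nsmul_H (hT : EtCoh.IsTorsion (cokernel j)) m t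
    refine ⟨M * N, Nat.mul_pos hM hN, 0, ?_⟩
    rw [Ext.zero_comp, mul_smul, ← ht]
    refine Eq.trans ?_ (map_nsmul (hS₂.extClass.postcomp (EtCoh.const X ℤ) rfl) M t)
    rw [hM0, map_zero]

end Push

end Groth.Agent.EtTrace
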