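import Groth.Agent.EtTrace.Torsion
import Groth.Agent.EtFound.PullExt
import Groth.Agent.EtFound.EdgeVanish
import Groth.Agent.BigSiteLib.HofPushEt
import Groth.Agent.GmH1Lib.Pic
import Groth.Agent.H23.KLBasic
import Groth.Prelude.Def_Dix

/-! first cohomology at a point: Hilbert 90 for `Gm` and the consequences for skyscrapers -/

set_option autoImplicit false
universe u

open CategoryTheory CategoryTheory.Limits AlgebraicGeometry Opposite CategoryTheory.Abelian

namespace Groth.Agent.EtTrace

open Groth.Agent.EtFound Groth.Agent.EtLC12 Groth.Agent.EtMVLib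

set_option backward.isDefEq.respectTransparency false
set_option backward.isDefEq.respectTransparency.types false
set_option linter.style.haveILetI false

/-- étale `H¹(Gm)` vanishes on a one-point scheme -/
theorem subsingleton_H1_Gm_point (Z : Scheme.{u}) [Subsingleton Z] [Nonempty Z] :
    Subsingleton (EtCoh.H Z (EtCoh.Gm Z) 1) := by
  refine (GmH1Lib.subsingleton_H1_Gm_iff Z).2 fun L hL => ?_
  obtain ⟨U, hx, e, he⟩ := InvX.exists_frame hL (Classical.arbitrary Z)
  obtain rfl : U = ⊤ := eq_top_iff.2 fun y _ => Subsingleton.elim (Classical.arbitrary Z) y ▸ hx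
  exact InvUfdLib.nonempty_iso_of_frame he

/-- restriction of `Gm` along an étale morphism is `Gm` -/
noncomputable def pullGmIso {X Z : Scheme.{u}} (j : Z ⟶ X) [AlgebraicGeometry.Etale j] :
    (EtCoh.pull j).obj (EtCoh.Gm X) ≅ EtCoh.Gm Z :=
  haveI := jCont j
  ((restrPullIso j).app (EtCoh.Gm X)).symm ≪≫
    (fullyFaithfulSheafToPresheaf _ _).preimageIso
      (NatIso.ofComponents (fun _ => Iso.refl _) (fun {A B} g => by exact (Category.comp_id _).trans (Category.id_comp _).symm))

theorem subsingleton_ext_Gm {X : Scheme.{u}} (W : X.Etale)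
    [Subsingleton (EtCoh.H W.left (EtCoh.Gm W.left) 1)] :
    Subsingleton (Ext.{u + 1} (freeOn W) (EtCoh.Gm X) 1) := by
  haveI : AlgebraicGeometry.Etale W.hom := W.prop
  haveI : PreservesFiniteLimits (EtCoh.pull W.hom) := pull_preservesFiniteLimits W.hom
  haveI : IsIso (𝟙 W.left) := IsIso.id _
  have hb := (postcomp_bijective (pullGmIso W.hom).hom 1).comp
    (ptMap_bijective W.hom W (𝟙 W.left) (Category.id_comp _) (EtCoh.Gm X) 1)
  exact ⟨fun a b => hb.1 (Subsingleton.elim (α := EtCoh.H W.left (EtCoh.Gm W.left) 1) _ _)⟩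

section Field

variable {K : Type u} [Field K]

local notation "S" => Spec (CommRingCat.of K)

theorem subsingleton_ext_of_points (F : EtCoh.Ab S) (n : ℕ)
    (hF : ∀ (L : Type u) [Field L] [Algebra K L] [FiniteDimensional K L] [Algebra.IsSeparable K L],
      Subsingleton (Ext.{u + 1} (freeOn (obj K L)) F n))
    (W : (S).Etale) [CompactSpace W.left] : Subsingleton (Ext.{u + 1} (freeOn W) F n) := by
  classical
  refine subsingleton_of_forall_eq 0 fun x => ?_
  haveI := discrete_left W
  haveI : Finite W.left := finite_of_compact_of_discrete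
  let m := Nat.card W.left
  let e : Fin m ≃ W.left := (Finite.equivFin W.left).symm
  choose L _ _ _ _ i hi hiw using fun j : Fin m => exists_open_point W (e j)
  haveI : ∀ j, Mono (i j) := fun j => by
    haveI := hi j
    refine ⟨fun f g h => MorphismProperty.Over.Hom.ext ?_⟩
    rw [← cancel_mono (i j).left]
    exact congrArg (fun m => m.left) h
  refine eq_zero_of_pieces (fun j => obj K (L j)) i (fun w => ?_) (fun j l hjl a b hab => hjl ?_) _ fun j => ?_
  · exact ⟨e.symm w, (default : Spec (CommRingCat.of (L (e.symm w)))), (hiw _ _).trans (e.apply_symm_apply w)⟩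
  · exact e.injective ((hiw j a).symm.trans (hab.trans (hiw l b)))
  · haveI := hF (L j)
    exact Subsingleton.elim _ _

theorem subsingleton_ext_Gm_field (W : (S).Etale) [CompactSpace W.left] :
    Subsingleton (Ext.{u + 1} (freeOn W) (EtCoh.Gm S) 1) :=
  subsingleton_ext_of_points _ 1 (fun L _ _ _ _ => by
    haveI : Subsingleton (obj K L).left := inferInstanceAs (Subsingleton (Spec (CommRingCat.of L)))
    haveI : Nonempty (obj K L).left := inferInstanceAs (Nonempty (Spec (CommRingCat.of L)))
    haveI := subsingleton_H1_Gm_point (obj K L).left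
    exact subsingleton_ext_Gm _) W

end Field

section Push

variable {X Z : Scheme.{u}} (f : Z ⟶ X) [QuasiCompact f] [QuasiSeparated f]

/-- `R¹f_* G = 0` when degree one classes on quasi-compact objects vanish -/
theorem isZero_Rpush_one (G : EtCoh.Ab Z)
    (hG : ∀ W : Z.Etale, IsQcqsObj W → Subsingleton (Ext.{u + 1} (freeOn W) G 1)) :
    IsZero ((EtCoh.Rpush f 1).obj G) := by
  let P := EtCoh.push f
  haveI : PreservesFiniteLimits P := push_preservesFiniteLimits f
  obtain ⟨S₀, hS₀, hI, rfl⟩ : ∃ S : ShortComplex (EtCoh.Ab Z), S.ShortExact ∧ Injective S.X₂ ∧ S.X₁ = G :=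
    ⟨injSES G, injSES_shortExact G, inferInstanceAs (Injective (Injective.under G)), rfl⟩
  refine (epi_map_g_iff P hS₀).1 ((Sheaf.isLocallySurjective_iff_epi' AddCommGrpCat.{u + 1} (P.map S₀.g)).1 ?_)
  refine ⟨fun {U} s => (mem_topology_iff _).2 fun x => ?_⟩
  obtain ⟨V, g, ⟨v, hv⟩, -, hW⟩ := exists_qc_nhd f U x
  let W := (EtCoh.bc f).obj V
  haveI := hG W hW
  obtain ⟨ψ, hψ⟩ := exists_free_hom (W := W) (G := S₀.X₃) ((P.obj S₀.X₃).obj.map g.op s)
  obtain ⟨φ', hφ'⟩ := Ext.covariant_sequence_exact₃ _ hS₀ (Ext.mk₀ ψ) (rfl : 0 + 1 = 1) (Subsingleton.elim _ _)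
  obtain ⟨φ, rfl⟩ := (Ext.mk₀_bijective _ _).2 φ'
  rw [Ext.mk₀_comp_mk₀] at hφ'
  have hφ : φ ≫ S₀.g = ψ := (Ext.mk₀_bijective _ _).1 hφ'
  refine ⟨V, g, v, ⟨(freeVal (W := W) φ : S₀.X₂.obj.obj (op W)), ?_⟩, hv⟩
  refine Eq.trans ?_ hψ
  rw [← hφ, freeVal_comp]
  rfl

end Push

section Residue

variable {X : Scheme.{u}} [CompactSpace X] [QuasiSeparatedSpace X]

theorem quasiCompact_fromSpecResidueField (x : X) : QuasiCompact (X.fromSpecResidueField x) := by
  haveI : QuasiSeparated (terminal.from X) := inferInstance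
  haveI : QuasiCompact (X.fromSpecResidueField x ≫ terminal.from X) := inferInstance
  exact QuasiCompact.of_comp (X.fromSpecResidueField x) (terminal.from X)

theorem isZero_Rpush_one_Gm (x : X) :
    IsZero ((EtCoh.Rpush (X.fromSpecResidueField x) 1).obj (EtCoh.Gm (Spec (X.residueField x)))) := by
  haveI := quasiCompact_fromSpecResidueField x
  refine isZero_Rpush_one _ _ fun W hW => ?_
  haveI : CompactSpace W.left := hW.1
  exact subsingleton_ext_Gm_field (K := X.residueField x) W

omit [CompactSpace X] [QuasiSeparatedSpace X] in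
theorem hofPush_one_injective {Z : Scheme.{u}} (f : Z ⟶ X) [PreservesFiniteLimits (EtCoh.pull f)]
    (G : EtCoh.Ab Z) : Function.Injective (EtLim.HofPush f G 1) := by
  haveI : (EtCoh.pull f).IsLeftAdjoint := (EtCoh.pullPushAdj f).isLeftAdjoint
  haveI : (EtCoh.push f).IsRightAdjoint := (EtCoh.pullPushAdj f).isRightAdjoint
  haveI : (EtCoh.pull f).Additive := (EtCoh.pullPushAdj f).left_adjoint_additive
  have h := edge_one_injective (EtCoh.pullPushAdj f) (EtCoh.const X ℤ) G
  intro a b hab
  refine h ((precomp_bijective (EtCore.pullConst f ℤ).inv 1).1 ?_)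
  show (Ext.mk₀ _).comp _ _ = (Ext.mk₀ _).comp _ _
  simp only [edge_apply]
  rw [← Ext.comp_assoc_of_third_deg_zero, ← Ext.comp_assoc_of_third_deg_zero]
  exact hab

omit [CompactSpace X] [QuasiSeparatedSpace X] in
theorem hofPush_two_injective {Z : Scheme.{u}} (f : Z ⟶ X) [PreservesFiniteLimits (EtCoh.pull f)]
    (G : EtCoh.Ab Z) (hG : IsZero ((EtCoh.Rpush f 1).obj G)) : Function.Injective (EtLim.HofPush f G 2) := by
  haveI : (EtCoh.pull f).IsLeftAdjoint := (EtCoh.pullPushAdj f).isLeftAdjoint
  haveI : (EtCoh.push f).IsRightAdjoint := (EtCoh.pullPushAdj f).isRightAdjoint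
  haveI : (EtCoh.pull f).Additive := (EtCoh.pullPushAdj f).left_adjoint_additive
  haveI : PreservesFiniteLimits (EtCoh.push f) := push_preservesFiniteLimits f
  have h := (edge_bijective_of_vanish (EtCoh.pullPushAdj f) 1 G (fun q h1 h2 => by
    obtain rfl : q = 1 := by omega
    exact hG) (EtCoh.const X ℤ)).2
  intro a b hab
  refine h ((precomp_bijective (EtCore.pullConst f ℤ).inv 2).1 ?_)
  show (Ext.mk₀ _).comp _ _ = (Ext.mk₀ _).comp _ _
  simp only [edge_apply]
  rw [← Ext.comp_assoc_of_third_deg_zero, ← Ext.comp_assoc_of_third_deg_zero]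
  exact hab

end Residue

end Groth.Agent.EtTrace
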