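import Groth.Agent.EtFound.LocalizedCoh
import Groth.Agent.EtFound.CoprodSections

/-! the trace of a split-after-cover étale object, and locality of positive degree classes -/

set_option autoImplicit false
universe u

open CategoryTheory CategoryTheory.Limits AlgebraicGeometry Opposite CategoryTheory.Abelian

namespace Groth.Agent.EtTrace

open Groth.Agent.EtFound

set_option backward.isDefEq.respectTransparency.types false
set_option linter.style.haveILetI false

variable {X : Scheme.{u}}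

/-- the augmentation `ℤ[W] ⟶ ℤ` -/
noncomputable def aug (W : X.Etale) : freeOn W ⟶ EtCoh.const X ℤ :=
  (exists_free_hom ((EtCoh.const X ℤ).obj.map ((EtCore.topIsTerminal X).from W).op (constVal (𝟙 _)))).choose

theorem freeVal_aug (W : X.Etale) :
    freeVal (aug W) = (EtCoh.const X ℤ).obj.map ((EtCore.topIsTerminal X).from W).op (constVal (𝟙 _)) :=
  (exists_free_hom ((EtCoh.const X ℤ).obj.map ((EtCore.topIsTerminal X).from W).op (constVal (𝟙 _)))).choose_spec

/-- the map of free sheaves of a morphism -/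
noncomputable def freeMap {W B : X.Etale} (a : W ⟶ B) : freeOn W ⟶ freeOn B :=
  (exists_free_hom ((freeOn B).obj.map a.op (freeVal (𝟙 (freeOn B))))).choose

theorem freeVal_freeMap {W B : X.Etale} (a : W ⟶ B) :
    freeVal (freeMap a) = (freeOn B).obj.map a.op (freeVal (𝟙 (freeOn B))) :=
  (exists_free_hom ((freeOn B).obj.map a.op (freeVal (𝟙 (freeOn B))))).choose_spec

theorem freeVal_freeMap_comp {W B : X.Etale} (a : W ⟶ B) {G : EtCoh.Ab X} (ψ : freeOn B ⟶ G) :
    freeVal (freeMap a ≫ ψ) = G.obj.map a.op (freeVal ψ) := by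
  rw [freeVal_comp, freeVal_freeMap]
  refine (ConcreteCategory.congr_hom (ψ.hom.naturality a.op) (freeVal (𝟙 (freeOn B)))).trans ?_
  refine congrArg (G.obj.map a.op) ?_
  exact (freeVal_comp _ _).symm.trans (congrArg freeVal (Category.id_comp ψ))

theorem freeMap_aug {W B : X.Etale} (a : W ⟶ B) : freeMap a ≫ aug B = aug W := by
  refine free_ext ?_
  rw [freeVal_freeMap_comp, freeVal_aug, freeVal_aug]
  refine ((ConcreteCategory.congr_hom ((EtCoh.const X ℤ).obj.map_comp
    ((EtCore.topIsTerminal X).from B).op a.op) (constVal (𝟙 _))).symm).trans ?_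
  rw [← op_comp, (EtCore.topIsTerminal X).hom_ext (a ≫ (EtCore.topIsTerminal X).from B)
    ((EtCore.topIsTerminal X).from W)]

theorem map_map {F : EtCoh.Ab X} {U V W : X.Etale} (f : U ⟶ V) (g : V ⟶ W) (s : F.obj.obj (op W)) :
    F.obj.map f.op (F.obj.map g.op s) = F.obj.map (f ≫ g).op s := by
  rw [op_comp, F.obj.map_comp]
  rfl

/-- a split-after-cover object has a trace -/
theorem exists_trace {B W Y : X.Etale} (a : W ⟶ B) (q : Y ⟶ B)
    (hq : ∀ b : B.left, ∃ y : Y.left, q.left.base y = b) {J : Type} [Fintype J] (τ : J → (Y ⟶ W))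
    (hτ : ∀ j, τ j ≫ a = q)
    (hloc : ∀ (V : X.Etale) (g g' : V ⟶ Y), g ≫ q = g' ≫ q → ∀ v : V.left,
      ∃ (U : X.Etale) (i : U ⟶ V) (u : U.left), i.left.base u = v ∧
        ∃ π : J ≃ J, ∀ j, i ≫ g ≫ τ j = i ≫ g' ≫ τ (π j)) :
    ∃ t : freeOn B ⟶ freeOn W, t ≫ freeMap a = Fintype.card J • 𝟙 (freeOn B) := by
  classical
  let σ : (freeOn W).obj.obj (op W) := freeVal (𝟙 (freeOn W))
  let s : (freeOn W).obj.obj (op Y) := ∑ j, (freeOn W).obj.map (τ j).op σ
  have hcompat : Presieve.FamilyOfElements.Compatible (P := (freeOn W).obj ⋙ forget AddCommGrpCat.{u + 1})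
      (R := Presieve.ofArrows (fun _ : PUnit.{1} => Y) (fun _ => q))
      (fun Z f hf => (freeOn W).obj.map (eqToHom (by cases hf; rfl) : Z ⟶ Y).op s) := by
    intro Y₁ Y₂ V g g' f₁ f₂ h₁ h₂ hw
    cases h₁
    cases h₂
    simp only [eqToHom_refl]
    show (freeOn W).obj.map g.op ((freeOn W).obj.map (𝟙 Y).op s) = (freeOn W).obj.map g'.op ((freeOn W).obj.map (𝟙 Y).op s)
    rw [map_map, map_map, Category.comp_id, Category.comp_id]
    refine eq_of_cover (A := AddCommGrpCat.{u + 1}) (freeOn W) _ _ ?_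
    rw [mem_topology_iff]
    intro v
    obtain ⟨U, i, u, hu, π, hπ⟩ := hloc V g g' hw v
    refine ⟨U, i, u, ?_, hu⟩
    show (freeOn W).obj.map i.op ((freeOn W).obj.map g.op s) = (freeOn W).obj.map i.op ((freeOn W).obj.map g'.op s)
    simp only [s, map_sum, map_map]
    refine Fintype.sum_equiv π _ _ fun j => ?_
    rw [hπ j]
  have hsheaf : Presieve.IsSheafFor ((freeOn W).obj ⋙ forget AddCommGrpCat.{u + 1})
      (Presieve.ofArrows (fun _ : PUnit.{1} => Y) (fun _ => q)) :=
    isSheafFor_of_covers (freeOn W) (fun _ : PUnit.{1} => Y) (fun _ => q) fun b => ⟨PUnit.unit, hq b⟩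
  obtain ⟨t₀, ht₀, -⟩ := hsheaf _ hcompat
  have ht : (freeOn W).obj.map q.op t₀ = s := by
    refine (ht₀ q (Presieve.ofArrows.mk PUnit.unit)).trans ?_
    simp
  obtain ⟨t, ht'⟩ := exists_free_hom (W := B) (G := freeOn W) t₀
  refine ⟨t, free_ext ?_⟩
  refine (isSheafFor_of_covers (freeOn B) (fun _ : PUnit.{1} => Y) (fun _ => q)
    (fun b => ⟨PUnit.unit, hq b⟩)).isSeparatedFor.ext fun V f hf => ?_
  cases hf
  show (freeOn B).obj.map q.op (freeVal (t ≫ freeMap a)) = (freeOn B).obj.map q.op _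
  rw [freeVal_comp, ht', freeVal_nsmul, map_nsmul]
  refine (ConcreteCategory.congr_hom ((freeMap a).hom.naturality q.op) t₀).symm.trans ?_
  refine (congrArg ((freeMap a).hom.app (op Y)) ht).trans ?_
  simp only [s, map_sum]
  rw [← Finset.card_univ, ← Finset.sum_const]
  refine Finset.sum_congr rfl fun j _ => ?_
  refine (ConcreteCategory.congr_hom ((freeMap a).hom.naturality (τ j).op) σ).trans ?_
  refine (congrArg ((freeOn B).obj.map (τ j).op) ?_).trans ((map_map (F := freeOn B) (τ j) a _).trans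
    (congrArg (fun m : Y ⟶ B => (freeOn B).obj.map m.op (freeVal (𝟙 (freeOn B)))) (hτ j)))
  exact (freeVal_comp _ _).symm.trans ((congrArg freeVal (Category.id_comp _)).trans (freeVal_freeMap a))

/-- classes killed on a split-after-cover object are killed by the degree -/
theorem nsmul_eq_zero_of_freeMap {B W : X.Etale} {a : W ⟶ B} {d : ℕ}
    (h : ∃ t : freeOn B ⟶ freeOn W, t ≫ freeMap a = d • 𝟙 (freeOn B)) {F : EtCoh.Ab X} {n : ℕ}
    (x : Ext.{u + 1} (freeOn B) F n) (hx : (Ext.mk₀ (freeMap a)).comp x (zero_add n) = 0) : d • x = 0 := by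
  obtain ⟨t, ht⟩ := h
  have h1 : (Ext.mk₀ (t ≫ freeMap a)).comp x (zero_add n) = 0 := by
    rw [← Ext.mk₀_comp_mk₀_assoc, hx, Ext.comp_zero]
  rw [ht] at h1
  have : ∀ m : ℕ, (Ext.mk₀ (m • 𝟙 (freeOn B))).comp x (zero_add n) = m • x := by
    intro m
    induction m with
    | zero => rw [zero_nsmul, zero_nsmul, Ext.mk₀_zero, Ext.zero_comp]
    | succ m ih => rw [succ_nsmul, succ_nsmul, Ext.mk₀_add, Ext.add_comp, ih, Ext.mk₀_id_comp]
  rw [← this d, h1]

/-- positive degree classes vanish locally -/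
theorem exists_killing (W : X.Etale) (F : EtCoh.Ab X) (n : ℕ) (x : Ext.{u + 1} (freeOn W) F (n + 1)) (w : W.left) :
    ∃ (V : X.Etale) (a : V ⟶ W) (v : V.left), a.left.base v = w ∧
      (Ext.mk₀ (freeMap a)).comp x (zero_add (n + 1)) = 0 := by
  let R := injectiveResolution F
  obtain ⟨ψ, hψ, rfl⟩ := R.extMk_surjective x (n + 2) rfl
  obtain ⟨A, π, hπ, g, hg⟩ := ((R.exact_succ n).exact_up_to_refinements) ψ hψ
  have hloc : Presheaf.IsLocallySurjective X.smallEtaleTopology π.hom :=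
    (Sheaf.isLocallySurjective_iff_epi' AddCommGrpCat.{u + 1} _).2 hπ
  obtain ⟨V, a, v, ⟨z, hz⟩, hv⟩ := (mem_topology_iff _).1 (hloc.imageSieve_mem (U := W) (freeVal (𝟙 (freeOn W)))) w
  refine ⟨V, a, v, hv, ?_⟩
  obtain ⟨ρ, hρ⟩ := exists_free_hom (W := V) z
  rw [InjectiveResolution.mk₀_comp_extMk]
  refine (R.extMk_eq_zero_iff _ (n + 2) rfl _ n rfl).2 ⟨ρ ≫ g, ?_⟩
  have h1 : ρ ≫ π = freeMap a := free_ext (by
    rw [freeVal_comp, hρ, freeVal_freeMap]
    exact hz)
  rw [Category.assoc, ← h1, Category.assoc]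
  exact congrArg (ρ ≫ ·) hg.symm

end Groth.Agent.EtTrace
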