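import Groth.Agent.EtTrace.Field

/-! degree bounds on the order of cohomology classes of fields -/

set_option autoImplicit false
universe u

open CategoryTheory CategoryTheory.Limits AlgebraicGeometry Opposite CategoryTheory.Abelian

namespace Groth.Agent.EtTrace

open Groth.Agent.EtFound Groth.Agent.EtMVLib

set_option backward.isDefEq.respectTransparency false
set_option backward.isDefEq.respectTransparency.types false
set_option linter.style.haveILetI false

variable {X Z : Scheme.{u}}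

theorem isIso_aug_top : IsIso (aug (EtCoh.top X)) := by
  have hv : freeVal (aug (EtCoh.top X)) = constVal (𝟙 (EtCoh.const X ℤ)) := by
    rw [freeVal_aug, (EtCore.topIsTerminal X).hom_ext ((EtCore.topIsTerminal X).from (EtCoh.top X)) (𝟙 _), op_id,
      CategoryTheory.Functor.map_id]
    rfl
  let e' : EtCoh.const X ℤ ⟶ freeOn (EtCoh.top X) := ofVal (freeVal (𝟙 _))
  refine ⟨e', free_ext ?_, (constVal_bijective _).1 ?_⟩
  · rw [freeVal_comp, hv]
    exact ((constVal_comp (𝟙 _) e').symm.trans (congrArg constVal (Category.id_comp e'))).trans (constVal_ofVal _)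
  · rw [constVal_comp, constVal_ofVal]
    exact ((freeVal_comp (𝟙 _) _).symm.trans (congrArg freeVal (Category.id_comp _))).trans hv

theorem freeMap_comp {U V W : X.Etale} (a : U ⟶ V) (b : V ⟶ W) : freeMap (a ≫ b) = freeMap a ≫ freeMap b := by
  refine free_ext ?_
  rw [freeVal_freeMap_comp, freeVal_freeMap, freeVal_freeMap, map_map]

theorem freeMap_id (U : X.Etale) : freeMap (𝟙 U) = 𝟙 (freeOn U) := by
  refine free_ext ?_
  rw [freeVal_freeMap, op_id, CategoryTheory.Functor.map_id]
  rfl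

theorem isIso_aug_of_isIso {U : X.Etale} [IsIso ((EtCore.topIsTerminal X).from U)] : IsIso (aug U) := by
  haveI := isIso_aug_top (X := X)
  rw [← freeMap_aug ((EtCore.topIsTerminal X).from U)]
  haveI : IsIso (freeMap ((EtCore.topIsTerminal X).from U)) :=
    ⟨freeMap (inv ((EtCore.topIsTerminal X).from U)), by rw [← freeMap_comp, IsIso.hom_inv_id, freeMap_id],
      by rw [← freeMap_comp, IsIso.inv_hom_id, freeMap_id]⟩
  infer_instance

theorem atPt_global (h : Z ⟶ X) (W : X.Etale) (ρ : Z ⟶ W.left) (e : ρ ≫ W.hom = h) (F : EtCoh.Ab X)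
    (s : F.obj.obj (op (EtCoh.top X))) :
    atPt h W ρ e F (F.obj.map ((EtCore.topIsTerminal X).from W).op s) = (pullSec h).app F s := by
  let G := (EtCoh.pull h).obj F
  have n := ConcreteCategory.congr_hom
    (((EtCoh.pullPushAdj h).unit.app F).hom.naturality ((EtCore.topIsTerminal X).from W).op) s
  refine (congrArg (G.obj.map (ptSec h W ρ e).op) n).trans ?_
  show G.obj.map (ptSec h W ρ e).op (G.obj.map ((EtCoh.bc h).map ((EtCore.topIsTerminal X).from W)).op
      (((EtCoh.pullPushAdj h).unit.app F).hom.app (op (EtCoh.top X)) s)) =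
    G.obj.map (EtCore.bcTopIso h).inv.op (((EtCoh.pullPushAdj h).unit.app F).hom.app (op (EtCoh.top X)) s)
  rw [map_map, (EtCore.bcTopIsTerminal h).hom_ext (ptSec h W ρ e ≫ (EtCoh.bc h).map ((EtCore.topIsTerminal X).from W))
    (EtCore.bcTopIso h).inv]

theorem ptGen_aug (h : Z ⟶ X) (W : X.Etale) (ρ : Z ⟶ W.left) (e : ρ ≫ W.hom = h) :
    ptGen h W ρ e ≫ (EtCoh.pull h).map (aug W) = (EtCore.pullConst h ℤ).inv := by
  refine (constVal_bijective _).1 ?_
  rw [constVal_ptGen_map, freeVal_aug, atPt_global]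
  have h' := constVal_pullConst h (𝟙 (EtCoh.const X ℤ))
  rw [CategoryTheory.Functor.map_id, Category.comp_id] at h'
  exact h'.symm

/-- pullback to an étale point kills exactly what the augmentation kills -/
theorem Hpull_eq_zero_iff (h : Z ⟶ X) [AlgebraicGeometry.Etale h] (W : X.Etale) (ρ : Z ⟶ W.left) [IsIso ρ]
    (e : ρ ≫ W.hom = h) [PreservesFiniteLimits (EtCoh.pull h)] (F : EtCoh.Ab X) (n : ℕ) (x : EtCoh.H X F n) :
    EtCore.Hpull h F n x = 0 ↔ (Ext.mk₀ (aug W)).comp x (zero_add n) = 0 := by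
  have key : EtCore.Hpull h F n x = ptMap h W ρ e F n ((Ext.mk₀ (aug W)).comp x (zero_add n)) := by
    show (Ext.mk₀ (EtCore.pullConst h ℤ).inv).comp (x.mapExactFunctor (EtCoh.pull h)) (zero_add n) =
      (Ext.mk₀ (ptGen h W ρ e)).comp (((Ext.mk₀ (aug W)).comp x (zero_add n)).mapExactFunctor (EtCoh.pull h)) (zero_add n)
    rw [Ext.mapExactFunctor_comp, Ext.mapExactFunctor_mk₀, Ext.mk₀_comp_mk₀_assoc, ptGen_aug]
  rw [key]
  refine ⟨fun h0 => (ptMap_bijective h W ρ e F n).1 (h0.trans (map_zero _).symm), fun h0 => ?_⟩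
  rw [h0, map_zero]

variable (K : Type u) [Field K]

local notation "S" => Spec (CommRingCat.of K)

theorem isIso_from_self : IsIso ((EtCore.topIsTerminal S).from (obj K K)) := by
  let b : EtCoh.top S ⟶ obj K K := MorphismProperty.Over.homMk (𝟙 S) (by
    show 𝟙 S ≫ Spec.map (CommRingCat.ofHom (RingHom.id K)) = 𝟙 S
    rw [Category.id_comp, CommRingCat.ofHom_id, Spec.map_id])
  refine ⟨b, MorphismProperty.Over.Hom.ext ?_, (EtCore.topIsTerminal S).hom_ext _ _⟩
  show ((EtCore.topIsTerminal S).from (obj K K)).left ≫ 𝟙 S = 𝟙 S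
  have h := MorphismProperty.Over.w ((EtCore.topIsTerminal S).from (obj K K))
  have h2 : (obj K K).hom = 𝟙 S := by
    show Spec.map (CommRingCat.ofHom (RingHom.id K)) = 𝟙 S
    rw [CommRingCat.ofHom_id, Spec.map_id]
  exact h.trans h2

variable {K}

/-- a class killed by a finite separable extension is killed by its degree -/
theorem nsmul_eq_zero {L : Type u} [Field L] [Algebra K L] [FiniteDimensional K L] [Algebra.IsSeparable K L]
    {F : EtCoh.Ab S} {n : ℕ} (x : EtCoh.H S F n)
    (hx : (Ext.mk₀ (aug (obj K L))).comp x (zero_add n) = 0) : Module.finrank K L • x = 0 := by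
  haveI := isIso_from_self K
  haveI : IsIso (aug (obj K K)) := isIso_aug_of_isIso
  have h := nsmul_eq_zero_of_freeMap (exists_trace_field (K := K) (L := L) (L₀ := K))
    ((Ext.mk₀ (aug (obj K K))).comp x (zero_add n)) (by rw [Ext.mk₀_comp_mk₀_assoc, freeMap_aug, hx])
  have h1 := congrArg ((Ext.mk₀ (inv (aug (obj K K)))).precomp F (zero_add n)) h
  rw [map_nsmul, map_zero] at h1
  refine Eq.trans (congrArg (Module.finrank K L • ·) ?_) h1
  show x = (Ext.mk₀ (inv (aug (obj K K)))).comp ((Ext.mk₀ (aug (obj K K))).comp x (zero_add n)) (zero_add n)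
  rw [Ext.mk₀_comp_mk₀_assoc, IsIso.inv_hom_id, Ext.mk₀_id_comp]

/-- relative version -/
theorem nsmul_aug_eq_zero {L₀ L : Type u} [Field L₀] [Field L] [Algebra K L₀] [Algebra K L] [Algebra L₀ L]
    [IsScalarTower K L₀ L] [FiniteDimensional K L₀] [Algebra.IsSeparable K L₀] [FiniteDimensional K L]
    [Algebra.IsSeparable K L] {F : EtCoh.Ab S} {n : ℕ} (x : EtCoh.H S F n)
    (hx : (Ext.mk₀ (aug (obj K L))).comp x (zero_add n) = 0) :
    Module.finrank L₀ L • (Ext.mk₀ (aug (obj K L₀))).comp x (zero_add n) = 0 :=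
  nsmul_eq_zero_of_freeMap exists_trace_field _ (by rw [Ext.mk₀_comp_mk₀_assoc, freeMap_aug, hx])

/-- positive degree classes die in finite separable extensions -/
theorem exists_killing_field (F : EtCoh.Ab S) (n : ℕ) (x : EtCoh.H S F (n + 1)) :
    ∃ (L : Type u) (_ : Field L) (_ : Algebra K L) (_ : FiniteDimensional K L) (_ : Algebra.IsSeparable K L),
      (Ext.mk₀ (aug (obj K L))).comp x (zero_add (n + 1)) = 0 := by
  obtain ⟨V, a, v, -, hV⟩ := exists_killing (EtCoh.top S) F n ((Ext.mk₀ (aug (EtCoh.top S))).comp x (zero_add _))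
    (default : S)
  rw [Ext.mk₀_comp_mk₀_assoc, freeMap_aug] at hV
  obtain ⟨O, hO, hvO, -⟩ := exists_isAffineOpen_mem_and_subset (U := (⊤ : V.left.Opens)) (x := v) trivial
  haveI : AlgebraicGeometry.Etale V.hom := V.prop
  let φ : CommRingCat.of K ⟶ Γ(V.left, O) := Spec.preimage (hO.fromSpec ≫ V.hom)
  letI : Algebra K Γ(V.left, O) := φ.hom.toAlgebra
  have hφ : Spec.map (CommRingCat.ofHom (algebraMap K Γ(V.left, O))) = hO.fromSpec ≫ V.hom := Spec.map_preimage _
  haveI : Algebra.Etale K Γ(V.left, O) := RingHom.etale_algebraMap.1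
    ((HasRingHomProperty.Spec_iff (P := @AlgebraicGeometry.Etale)).1 (hφ ▸ inferInstance))
  haveI : Module.Finite K Γ(V.left, O) := Algebra.FormallyUnramified.finite_of_free K _
  let p := (hO.primeIdealOf ⟨v, hvO⟩).asIdeal
  haveI : IsArtinianRing Γ(V.left, O) := IsArtinianRing.of_finite K _
  haveI : p.IsMaximal := IsArtinianRing.isMaximal_of_isPrime p
  letI : Field (Γ(V.left, O) ⧸ p) := Ideal.Quotient.field p
  haveI : Algebra.FormallyUnramified K (Γ(V.left, O) ⧸ p) :=
    Algebra.FormallyUnramified.of_surjective (IsScalarTower.toAlgHom K Γ(V.left, O) (Γ(V.left, O) ⧸ p))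
      Ideal.Quotient.mk_surjective
  haveI : Algebra.IsSeparable K (Γ(V.left, O) ⧸ p) := Algebra.FormallyUnramified.isSeparable K _
  refine ⟨Γ(V.left, O) ⧸ p, inferInstance, inferInstance, inferInstance, inferInstance, ?_⟩
  let i : obj K (Γ(V.left, O) ⧸ p) ⟶ V := MorphismProperty.Over.homMk
    (Spec.map (CommRingCat.ofHom (Ideal.Quotient.mk p)) ≫ hO.fromSpec) (by
      rw [Category.assoc, ← hφ, ← Spec.map_comp, ← CommRingCat.ofHom_comp]
      rfl)
  rw [← freeMap_aug i, ← Ext.mk₀_comp_mk₀_assoc, hV, Ext.comp_zero]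

end Groth.Agent.EtTrace
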