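import Groth.Agent.EtTrace.Basic
import Mathlib.RingTheory.Unramified.Field
import Mathlib.RingTheory.Etale.Field
import Mathlib.FieldTheory.Normal.Closure
import Mathlib.FieldTheory.Galois.Basic
import Mathlib.FieldTheory.IsSepClosed

/-! traces on the small étale site of a field -/

set_option autoImplicit false
universe u

open CategoryTheory CategoryTheory.Limits AlgebraicGeometry Opposite CategoryTheory.Abelian

namespace Groth.Agent.EtTrace

open Groth.Agent.EtFound

set_option backward.isDefEq.respectTransparency false
set_option backward.isDefEq.respectTransparency.types false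
set_option linter.style.haveILetI false

section EqLocus

variable {X : Scheme.{u}}

/-- two morphisms to an étale object agree near a point where they agree on the residue field -/
theorem exists_eq_nhd {V W : X.Etale} (g g' : V ⟶ W) (v : V.left)
    (h : V.left.fromSpecResidueField v ≫ g.left = V.left.fromSpecResidueField v ≫ g'.left) :
    ∃ O : V.left.Opens, v ∈ O ∧ O.ι ≫ g.left = O.ι ≫ g'.left := by
  haveI : AlgebraicGeometry.Etale W.hom := W.prop
  let d : V.left ⟶ pullback.diagonalObj W.hom := pullback.lift g.left g'.left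
    ((MorphismProperty.Over.w g).trans (MorphismProperty.Over.w g').symm)
  refine ⟨d ⁻¹ᵁ (pullback.diagonal W.hom).opensRange,
    ⟨(V.left.fromSpecResidueField v ≫ g.left) (default : Spec (V.left.residueField v)), ?_⟩, ?_⟩
  · have e : (V.left.fromSpecResidueField v ≫ g.left) ≫ pullback.diagonal W.hom = V.left.fromSpecResidueField v ≫ d := by
      apply pullback.hom_ext
      · simp [d]
      · simpa [d] using h
    exact (Scheme.Hom.comp_apply _ _ _).symm.trans ((congrArg (fun m : Spec (V.left.residueField v) ⟶ pullback.diagonalObj W.hom => m (default : Spec (V.left.residueField v))) e).trans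
      ((Scheme.Hom.comp_apply _ _ _).trans (congrArg d (Scheme.fromSpecResidueField_apply _ _))))
  · have hr : Set.range ((d ⁻¹ᵁ (pullback.diagonal W.hom).opensRange).ι ≫ d) ⊆ Set.range (pullback.diagonal W.hom) := by
      rintro _ ⟨x, rfl⟩
      exact x.2
    have hl := IsOpenImmersion.lift_fac (pullback.diagonal W.hom) _ hr
    have h1 := congrArg (· ≫ pullback.fst W.hom W.hom) hl
    have h2 := congrArg (· ≫ pullback.snd W.hom W.hom) hl
    simp only [Category.assoc, pullback.diagonal_fst, pullback.diagonal_snd, Category.comp_id, d,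
      pullback.lift_fst, pullback.lift_snd] at h1 h2
    exact h1.symm.trans h2

/-- finitely many pairs of morphisms agree on a common neighbourhood -/
theorem exists_common_nhd {V : X.Etale} {J : Type} [Fintype J] {W : J → X.Etale} (g g' : ∀ j, V ⟶ W j) (v : V.left)
    (h : ∀ j, V.left.fromSpecResidueField v ≫ (g j).left = V.left.fromSpecResidueField v ≫ (g' j).left) :
    ∃ (U : X.Etale) (i : U ⟶ V) (u : U.left), i.left.base u = v ∧ ∀ j, i ≫ g j = i ≫ g' j := by
  choose O hv hO using fun j => exists_eq_nhd (g j) (g' j) v (h j)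
  let O' : V.left.Opens := ⟨⋂ j, (O j : Set V.left), isOpen_iInter_of_finite fun j => (O j).2⟩
  refine ⟨restrictEtale V O', restrictEtaleHom V O', ⟨v, Set.mem_iInter.2 hv⟩, rfl, fun j => ?_⟩
  apply MorphismProperty.Over.Hom.ext
  have hle : O' ≤ O j := Set.iInter_subset _ j
  show O'.ι ≫ (g j).left = O'.ι ≫ (g' j).left
  rw [← Scheme.homOfLE_ι V.left hle, Category.assoc, Category.assoc, hO j]

end EqLocus

variable (K : Type u) [Field K]

local notation "S" => Spec (CommRingCat.of K)

/-- the spectrum of a finite separable extension as an étale object -/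
noncomputable def obj (L : Type u) [Field L] [Algebra K L] [FiniteDimensional K L] [Algebra.IsSeparable K L] :
    (S).Etale :=
  haveI : Algebra.FormallyEtale K L := Algebra.FormallyEtale.of_isSeparable K L
  haveI : Algebra.FinitePresentation K L := Algebra.FinitePresentation.of_finiteType.mp inferInstance
  haveI : Algebra.Etale K L := ⟨inferInstance, inferInstance⟩
  haveI : AlgebraicGeometry.Etale (Spec.map (CommRingCat.ofHom (algebraMap K L))) :=
    (HasRingHomProperty.Spec_iff (P := @AlgebraicGeometry.Etale)).2 (RingHom.etale_algebraMap.2 inferInstance)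
  Scheme.Etale.mk (Spec.map (CommRingCat.ofHom (algebraMap K L)))

variable {K}
variable {L M : Type u} [Field L] [Field M] [Algebra K L] [Algebra K M] [FiniteDimensional K L]
  [FiniteDimensional K M] [Algebra.IsSeparable K L] [Algebra.IsSeparable K M]

/-- the morphism of a map of extensions -/
noncomputable def homOf (φ : L →ₐ[K] M) : obj K M ⟶ obj K L :=
  MorphismProperty.Over.homMk (Spec.map (CommRingCat.ofHom (φ : L →+* M)))
    (by
      show Spec.map _ ≫ Spec.map _ = Spec.map _
      rw [← Spec.map_comp, ← CommRingCat.ofHom_comp, AlgHom.comp_algebraMap])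

theorem homOf_left (φ : L →ₐ[K] M) : (homOf φ).left = Spec.map (CommRingCat.ofHom (φ : L →+* M)) := rfl

theorem surjective_left {B : (S).Etale} (q : obj K M ⟶ B) [Subsingleton B.left] :
    ∀ b : B.left, ∃ y : (obj K M).left, q.left.base y = b :=
  fun _ => ⟨(default : Spec (CommRingCat.of M)), Subsingleton.elim _ _⟩

/-- the trace of a finite separable extension inside a finite separable extension `L₀` of `K` -/
theorem exists_trace_field {L₀ : Type u} [Field L₀] [Algebra K L₀] [FiniteDimensional K L₀] [Algebra.IsSeparable K L₀]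
    [Algebra L₀ L] [IsScalarTower K L₀ L] :
    ∃ t : freeOn (obj K L₀) ⟶ freeOn (obj K L),
      t ≫ freeMap (homOf (IsScalarTower.toAlgHom K L₀ L)) = Module.finrank L₀ L • 𝟙 (freeOn (obj K L₀)) := by
  classical
  haveI : FiniteDimensional L₀ L := Module.Finite.of_restrictScalars_finite K L₀ L
  haveI : Algebra.IsSeparable L₀ L := Algebra.isSeparable_tower_top_of_isSeparable K L₀ L
  let A := SeparableClosure L
  haveI : Algebra.IsSeparable L₀ A := Algebra.IsSeparable.trans L₀ L A
  haveI : IsSepClosure L₀ A := ⟨inferInstance, inferInstance⟩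
  haveI : IsGalois L₀ A := inferInstance
  let M := IntermediateField.normalClosure L₀ L A
  letI : Algebra K M := ((algebraMap L₀ M).comp (algebraMap K L₀)).toAlgebra
  haveI : IsScalarTower K L₀ M := IsScalarTower.of_algebraMap_eq fun _ => rfl
  haveI : FiniteDimensional K M := Module.Finite.trans L₀ M
  haveI : Algebra.IsSeparable L₀ M := inferInstance
  haveI : Algebra.IsSeparable K M := Algebra.IsSeparable.trans K L₀ M
  have hcard : Nat.card (L →ₐ[L₀] M) = Module.finrank L₀ L := by
    refine AlgHom.natCard_of_splits L₀ L M fun x => ?_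
    let f : L →ₐ[L₀] A := IsScalarTower.toAlgHom L₀ L A
    let φ : L →ₐ[L₀] M := (IntermediateField.inclusion f.fieldRange_le_normalClosure).comp f.rangeRestrict
    have := (inferInstance : Normal L₀ M).splits (φ x)
    rwa [minpoly.algHom_eq φ φ.injective] at this
  let N := Fintype.card (L →ₐ[L₀] M)
  let e := (Fintype.equivFin (L →ₐ[L₀] M)).symm
  let q : obj K M ⟶ obj K L₀ := homOf (IsScalarTower.toAlgHom K L₀ M)
  let τ : Fin N → (obj K M ⟶ obj K L) := fun j => homOf ((e j).restrictScalars K)
  haveI : Subsingleton (obj K L₀).left := inferInstanceAs (Subsingleton (Spec (CommRingCat.of L₀)))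
  obtain ⟨t, ht⟩ := exists_trace (homOf (IsScalarTower.toAlgHom K L₀ L)) q (surjective_left q) τ (fun j => by
    apply MorphismProperty.Over.Hom.ext
    show Spec.map _ ≫ Spec.map _ = Spec.map _
    rw [← Spec.map_comp, ← CommRingCat.ofHom_comp]
    congr 2
    ext x
    refine congrArg Subtype.val ?_
    simp [RingHom.algebraMap_toAlgebra]) (fun V g g' hgg v => by
    let κ := V.left.residueField v
    let φ : CommRingCat.of M ⟶ κ := Spec.preimage (V.left.fromSpecResidueField v ≫ g.left)
    let φ' : CommRingCat.of M ⟶ κ := Spec.preimage (V.left.fromSpecResidueField v ≫ g'.left)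
    have hbase : φ.hom.comp (algebraMap L₀ M) = φ'.hom.comp (algebraMap L₀ M) := by
      have h0 : g.left ≫ q.left = g'.left ≫ q.left := congrArg (fun m => m.left) hgg
      have h : Spec.map (CommRingCat.ofHom (algebraMap L₀ M) ≫ φ) = Spec.map (CommRingCat.ofHom (algebraMap L₀ M) ≫ φ') := by
        simp only [Spec.map_comp, φ, φ', Spec.map_preimage, Category.assoc]
        exact congrArg (V.left.fromSpecResidueField v ≫ ·) h0
      exact congrArg CommRingCat.Hom.hom (Spec.map_injective h)
    letI : Algebra M κ := φ.hom.toAlgebra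
    letI : Algebra L₀ κ := (φ.hom.comp (algebraMap L₀ M)).toAlgebra
    haveI : IsScalarTower L₀ M κ := IsScalarTower.of_algebraMap_eq fun _ => rfl
    let ψ : M →ₐ[L₀] κ := { φ'.hom with commutes' := fun x => (RingHom.congr_fun hbase x).symm }
    let σ : Gal(M/L₀) := Normal.algHomEquivAut L₀ κ M ψ
    have hσ : ∀ m, φ'.hom m = φ.hom (σ m) := fun m =>
      (AlgHom.congr_fun ((Normal.algHomEquivAut L₀ κ M).symm_apply_apply ψ) m).symm
    let π : Fin N ≃ Fin N :=
      (e.trans
        { toFun := fun j => σ.symm.toAlgHom.comp j
          invFun := fun j => σ.toAlgHom.comp j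
          left_inv := fun j => AlgHom.ext fun x => by simp
          right_inv := fun j => AlgHom.ext fun x => by simp }).trans e.symm
    obtain ⟨U, i, u, hu, hU⟩ := exists_common_nhd (fun j => g ≫ τ j) (fun j => g' ≫ τ (π j)) v (fun j => by
      show V.left.fromSpecResidueField v ≫ g.left ≫ (τ j).left =
        V.left.fromSpecResidueField v ≫ g'.left ≫ (τ (π j)).left
      have hφ : V.left.fromSpecResidueField v ≫ g.left = Spec.map φ := (Spec.map_preimage _).symm
      have hφ' : V.left.fromSpecResidueField v ≫ g'.left = Spec.map φ' := (Spec.map_preimage _).symm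
      rw [← Category.assoc, ← Category.assoc, hφ, hφ', homOf_left, homOf_left, ← Spec.map_comp, ← Spec.map_comp]
      congr 1
      refine CommRingCat.hom_ext (RingHom.ext fun x => ?_)
      show φ.hom (e j x) = φ'.hom (e (π j) x)
      have hp : e (π j) = σ.symm.toAlgHom.comp (e j) := e.apply_symm_apply _
      rw [hσ, hp]
      exact congrArg φ.hom (σ.apply_symm_apply _).symm)
    exact ⟨U, i, u, hu, π, hU⟩)
  refine ⟨t, ht.trans ?_⟩
  rw [Fintype.card_fin, ← hcard, Nat.card_eq_fintype_card]

end Groth.Agent.EtTrace
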